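import Cfsg.Agent.H339.Spr.E7
import Cfsg.Agent.H318.Wei.Over
import Cfsg.Agent.H563.KG.CycFix

/-!
# S3938: the row of `E₇(q)` (helper339, overgroup theorem: helper318)
-/

set_option autoImplicit false

namespace Cfsg.Agent.H339.Spr

open Cfsg Cfsg.Lie Cfsg.Agent.OrdDiv Cfsg.Agent.H436

theorem overE7 (tb : OrderTable.{0}) (hE : Cfsg.Agent.H56.Exc.CycFixSolv.{0}) (hcf : Cfsg.Agent.H563.KG.CF) :
    OverE7 := by
  intro F _ _ x hx H hxH hH
  refine Cfsg.Agent.H318.Wei.over_E7 tb hE hcf rfl ⟨?_⟩ hxH hH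
  have hq2 : 2 ≤ Fintype.card F := Fintype.one_lt_card
  have hg : Nat.gcd 2 (Fintype.card F - 1) ∣ Fintype.card F + 1 := by
    have h3 : Nat.gcd 2 (Fintype.card F - 1) ∣ 2 := Nat.gcd_dvd_left _ _
    have h4 := (Nat.dvd_add_right (Nat.gcd_dvd_right 2 (Fintype.card F - 1))).2 h3
    rwa [show Fintype.card F - 1 + 2 = Fintype.card F + 1 by omega] at h4
  rw [hx, Nat.mul_div_cancel' (hg.mul_right _)]

/-- **The row of `E₇(q)` of S3938.** -/
theorem row_e7 (tb : OrderTable.{0})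
    (hK : ∀ (X : Type) [Group X] [Finite X] [IsSimpleGroup X], Cfsg.IsKnownSimple' X) {q : ℕ} :
    Cfsg.Agent.H862.Spr.Row (.e7 q) :=
  row_e7_of (overE7 tb Cfsg.Agent.H563.KG.cycFixSolv hK)

end Cfsg.Agent.H339.Spr
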